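import Groth.Agent.ParaFLib.QSepBC
import Groth.Agent.PerfSch.DescSec
import Mathlib.Topology.Sheaves.SheafCondition.Sites

/-!
# Invertible modules on affine schemes with finitely many closed points
-/

set_option autoImplicit false
set_option linter.style.haveILetI false
set_option backward.isDefEq.respectTransparency false
set_option backward.isDefEq.respectTransparency.types false

universe u

open CategoryTheory CategoryTheory.Limits AlgebraicGeometry TopologicalSpace Opposite

noncomputable section

namespace Groth.Agent.SemiLocPic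

open Groth.Agent.QCoh Groth.Agent.Props.GenLocus

variable {Y : Scheme.{u}}

/-- An invertible module on an affine scheme has a global section generating at a given point. -/
theorem exists_mem_genLocus [IsAffine Y] {L : Y.Modules} (hL : PicF.IsInvertible L) (y : Y) :
    ∃ σ : Γ(L, ⊤), y ∈ CohB1.genLocus L (homOfSec σ) := by
  haveI : L.IsQuasicoherent := ProjTwist.isQCoh_of_isInvertible hL
  obtain ⟨W, e, hyW, he⟩ := exists_isGen hL y
  obtain ⟨f, hfW, hyf⟩ := (isAffineOpen_top Y).exists_basicOpen_le ⟨y, hyW⟩ trivial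
  obtain ⟨n, t, ht⟩ := (isLocalizingAt L (isAffineOpen_top Y) f).surj (res L hfW e)
  refine ⟨t, le_genLocus (W := Y.basicOpen f) ?_ hyf⟩
  rw [sec_homOfSec, ht]
  exact (he.restrict hfW).smul_unit ((RingedSpace.isUnit_res_basicOpen _ f).pow n)

/-- An invertible module on an affine scheme with finitely many closed points is trivial. -/
theorem nonempty_iso_of_finite_closedPoints [IsAffine Y] (hfin : (closedPoints (Y : Type u)).Finite)
    {L : Y.Modules} (hL : PicF.IsInvertible L) : Nonempty (Coh.structureModule Y ≅ L) := by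
  classical
  haveI := hfin.fintype
  have hsep : ∀ y : closedPoints (Y : Type u), ∃ e : Γ(Y, ⊤), y.1 ∈ Y.basicOpen e ∧
      ∀ z : closedPoints (Y : Type u), z ≠ y → z.1 ∉ Y.basicOpen e := by
    intro y
    let C : Set Y := closedPoints (Y : Type u) \ {y.1}
    have hC : IsClosed C := by
      rw [show C = ⋃ z ∈ C, {z} from (Set.biUnion_of_singleton C).symm]
      exact (hfin.subset Set.sdiff_subset).isClosed_biUnion fun z hz => hz.1
    obtain ⟨e, he, hye⟩ := (isAffineOpen_top Y).exists_basicOpen_le (V := ⟨Cᶜ, hC.isOpen_compl⟩)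
      ⟨y.1, fun h => h.2 rfl⟩ trivial
    exact ⟨e, hye, fun z hz hze => he hze ⟨z.2, fun h => hz (Subtype.ext h)⟩⟩
  choose ee hee hee' using hsep
  choose σ hσ using fun y : closedPoints (Y : Type u) => exists_mem_genLocus hL y.1
  let τ : Γ(L, ⊤) := ∑ y, ee y • σ y
  have key : ∀ y : closedPoints (Y : Type u), y.1 ∈ CohB1.genLocus L (homOfSec τ) := by
    intro y
    obtain ⟨W, e, hyW, he⟩ := exists_isGen hL y.1
    choose a ha using fun z : closedPoints (Y : Type u) => he.exists_eq le_rfl (res L le_top (σ z))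
    simp only [res_self] at ha
    have hτ : sec (homOfSec τ) W = (∑ z, rres le_top (ee z) * a z) • e := by
      rw [sec_homOfSec, map_sum, Finset.sum_smul]
      exact Finset.sum_congr rfl fun z _ => by rw [res_smul, (ha z).1, smul_smul]
    have hu : IsUnit (Y.presheaf.germ W y.1 hyW (a y)) := by
      rw [← Y.mem_basicOpen (hx := hyW)]
      have h1 := genLocus_inf he (homOfSec (σ y)) (f := a y) (by rw [sec_homOfSec]; exact (ha y).1)
      exact h1.le ⟨hσ y, hyW⟩
    refine ((genLocus_inf he (homOfSec τ) hτ).ge ?_).1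
    rw [Y.mem_basicOpen _ _ hyW, map_sum, ← Finset.add_sum_erase _ _ (Finset.mem_univ y)]
    have h1 : IsUnit (Y.presheaf.germ W y.1 hyW (rres le_top (ee y) * a y)) := by
      rw [map_mul]
      refine IsUnit.mul ?_ hu
      rw [Y.presheaf.germ_res_apply]
      exact (Y.mem_basicOpen (U := ⊤) (ee y) y.1 trivial).mp (hee y)
    have h2 : ∑ z ∈ Finset.univ.erase y, Y.presheaf.germ W y.1 hyW (rres le_top (ee z) * a z) ∈
        IsLocalRing.maximalIdeal (Y.presheaf.stalk y.1) := by
      refine Ideal.sum_mem _ fun z hz => ?_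
      rw [map_mul]
      refine Ideal.mul_mem_right _ _ ?_
      rw [Y.presheaf.germ_res_apply, IsLocalRing.mem_maximalIdeal, mem_nonunits_iff,
        ← Y.mem_basicOpen (U := ⊤) (ee z) y.1 trivial]
      exact hee' z y (Finset.ne_of_mem_erase hz).symm
    by_contra hc
    rw [← mem_nonunits_iff, ← IsLocalRing.mem_maximalIdeal, add_mem_cancel_right h2] at hc
    exact hc h1
  have htop : ⊤ ≤ CohB1.genLocus L (homOfSec τ) := by
    intro x _
    obtain ⟨y, hy, hy'⟩ := (isClosed_closure (s := {x})).exists_closed_singleton ⟨x, subset_closure rfl⟩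
    exact (specializes_iff_mem_closure.mpr hy).mem_open (CohB1.genLocus L (homOfSec τ)).2 (key ⟨y, hy'⟩)
  refine PerfSch.DescSec.nonempty_iso_of_isGen (σ := τ) ?_
  have h := (isGen_genLocus (homOfSec τ)).restrict htop
  rwa [sec_res, sec_homOfSec, res_self] at h

end Groth.Agent.SemiLocPic

/-- For a qcqs scheme `X`, `O → toSpecΓ_* O` is an isomorphism. -/
theorem Groth.Agent.SemiLocPic.bijective_toSpecΓ_app (X : Scheme.{u}) [CompactSpace X]
    [QuasiSeparatedSpace X] (U : (Spec Γ(X, ⊤)).Opens) : Function.Bijective (X.toSpecΓ.app U) := by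
  let F : TopCat.Sheaf CommRingCat (Spec Γ(X, ⊤)).carrier := (Spec Γ(X, ⊤)).sheaf
  let G : TopCat.Sheaf CommRingCat (Spec Γ(X, ⊤)).carrier :=
    (TopCat.Sheaf.pushforward _ X.toSpecΓ.base).obj X.sheaf
  let φ : F ⟶ G := { hom := X.toSpecΓ.c }
  haveI : IsIso φ :=
    TopCat.Sheaf.isIso_iff_isIso_basis (B := fun r : Γ(X, ⊤) => (PrimeSpectrum.basicOpen r :))
      PrimeSpectrum.isBasis_basic_opens fun r => isIso_ΓSpec_adjunction_unit_app_basicOpen r
  have h : IsIso ((TopCat.Sheaf.forget _ _).map φ) := inferInstance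
  exact (ConcreteCategory.isIso_iff_bijective _).1 ((NatTrans.isIso_iff_isIso_app _).1 h (op U))
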